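import Mathlib

set_option autoImplicit false

namespace CfsgLib.Heisenberg

open Matrix

variable {F : Type*} [CommRing F] {n : ℕ}

/-- A vector supported on the middle coordinates. -/
def mid (a : Fin n → F) : Fin (n + 2) → F := Fin.cons 0 (Fin.snoc a 0)

/-- The first coordinate vector. -/
def e0 : Fin (n + 2) → F := Fin.cons 1 0

/-- The last coordinate vector. -/
def eL : Fin (n + 2) → F := Fin.cons 0 (Fin.snoc 0 1)

/-- A Heisenberg matrix. -/
def mat (a b : Fin n → F) (c : F) : Matrix (Fin (n + 2)) (Fin (n + 2)) F :=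
  1 + vecMulVec e0 (mid a) + vecMulVec (mid b) eL + c • vecMulVec e0 eL

theorem mid_add (a a' : Fin n → F) : (mid (a + a') : Fin (n + 2) → F) = mid a + mid a' := by
  funext i
  refine Fin.cases (by simp [mid]) (fun j => ?_) i
  refine Fin.lastCases (by simp [mid]) (fun j => by simp [mid]) j

theorem mid_zero : (mid (0 : Fin n → F) : Fin (n + 2) → F) = 0 := by
  funext i
  refine Fin.cases (by simp [mid]) (fun j => ?_) i
  refine Fin.lastCases (by simp [mid]) (fun j => by simp [mid]) j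

theorem mid_dot_e0 (a : Fin n → F) : mid a ⬝ᵥ (e0 : Fin (n + 2) → F) = 0 := by
  simp [dotProduct, mid, e0, Fin.sum_univ_succ]

theorem mid_dot_eL (a : Fin n → F) : mid a ⬝ᵥ (eL : Fin (n + 2) → F) = 0 := by
  rw [dotProduct, Fin.sum_univ_succ, Fin.sum_univ_castSucc]
  simp [mid, eL]

theorem eL_dot_e0 : (eL : Fin (n + 2) → F) ⬝ᵥ e0 = 0 := by
  simp [dotProduct, eL, e0, Fin.sum_univ_succ]

theorem mid_dot_mid (a b : Fin n → F) : mid a ⬝ᵥ mid b = a ⬝ᵥ b := by
  rw [dotProduct, Fin.sum_univ_succ, Fin.sum_univ_castSucc]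
  simp [mid, dotProduct]

theorem eL_dot_mid (a : Fin n → F) : (eL : Fin (n + 2) → F) ⬝ᵥ mid a = 0 := by
  rw [dotProduct_comm]; exact mid_dot_eL a

theorem mat_mul (a b a' b' : Fin n → F) (c c' : F) :
    mat a b c * mat a' b' c' = mat (a + a') (b + b') (c + c' + a ⬝ᵥ b') := by
  simp only [mat, mul_add, add_mul, Matrix.smul_mul, Matrix.mul_smul, one_mul, mul_one, vecMulVec_mul_vecMulVec,
    mid_dot_e0, mid_dot_eL, eL_dot_e0, mid_dot_mid, eL_dot_mid, zero_smul, vecMulVec_zero, smul_zero,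
    mid_add, vecMulVec_add, add_vecMulVec, vecMulVec_smul, add_smul]
  abel

theorem mat_zero : mat (0 : Fin n → F) 0 0 = 1 := by
  simp [mat, mid_zero]

theorem mat_apply_a (a b : Fin n → F) (c : F) (j : Fin n) : mat a b c 0 j.castSucc.succ = a j := by
  simp [mat, vecMulVec_apply, mid, e0, eL, Matrix.one_apply, (Fin.succ_ne_zero _).symm]

theorem mat_apply_b (a b : Fin n → F) (c : F) (j : Fin n) : mat a b c j.castSucc.succ (Fin.last n).succ = b j := by
  simp [mat, vecMulVec_apply, mid, e0, eL, Matrix.one_apply, (Fin.castSucc_lt_last j).ne]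

theorem mat_apply_c (a b : Fin n → F) (c : F) : mat a b c 0 (Fin.last n).succ = c := by
  simp [mat, vecMulVec_apply, mid, e0, eL, Matrix.one_apply, (Fin.succ_ne_zero _).symm]

/-- A Heisenberg matrix as a unit. -/
def unit (a b : Fin n → F) (c : F) : GL (Fin (n + 2)) F where
  val := mat a b c
  inv := mat (-a) (-b) (-c + a ⬝ᵥ b)
  val_inv := by rw [mat_mul, add_neg_cancel, add_neg_cancel, dotProduct_neg, show c + (-c + a ⬝ᵥ b) + -(a ⬝ᵥ b) = 0 by ring, mat_zero]
  inv_val := by rw [mat_mul, neg_add_cancel, neg_add_cancel, neg_dotProduct, show -c + a ⬝ᵥ b + c + -(a ⬝ᵥ b) = 0 by ring, mat_zero]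

theorem unit_mul (a b a' b' : Fin n → F) (c c' : F) :
    unit a b c * unit a' b' c' = unit (a + a') (b + b') (c + c' + a ⬝ᵥ b') := Units.ext (mat_mul ..)

theorem unit_zero : unit (0 : Fin n → F) 0 0 = 1 := Units.ext mat_zero

theorem unit_inv (a b : Fin n → F) (c : F) : (unit a b c)⁻¹ = unit (-a) (-b) (-c + a ⬝ᵥ b) := Units.ext rfl

theorem unit_injective {a b a' b' : Fin n → F} {c c' : F} (h : unit a b c = unit a' b' c') :
    a = a' ∧ b = b' ∧ c = c' := by
  have h' : mat a b c = mat a' b' c' := congrArg Units.val h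
  refine ⟨funext fun j => ?_, funext fun j => ?_, ?_⟩
  · rw [← mat_apply_a a b c j, h', mat_apply_a]
  · rw [← mat_apply_b a b c j, h', mat_apply_b]
  · rw [← mat_apply_c a b c, h', mat_apply_c]

/-- The Heisenberg group. -/
def group (F : Type*) [CommRing F] (n : ℕ) : Subgroup (GL (Fin (n + 2)) F) where
  carrier := {x | ∃ a b c, x = unit a b c}
  one_mem' := ⟨0, 0, 0, unit_zero.symm⟩
  mul_mem' := by
    rintro _ _ ⟨a, b, c, rfl⟩ ⟨a', b', c', rfl⟩
    exact ⟨_, _, _, unit_mul ..⟩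
  inv_mem' := by
    rintro _ ⟨a, b, c, rfl⟩
    exact ⟨_, _, _, unit_inv ..⟩

theorem unit_pow (a b : Fin n → F) (c : F) : ∀ m : ℕ,
    (unit a b c) ^ m = unit ((m : F) • a) ((m : F) • b) ((m : F) * c + (m.choose 2 : ℕ) * (a ⬝ᵥ b))
  | 0 => by simp [unit_zero]
  | m + 1 => by
    rw [pow_succ, unit_pow a b c m, unit_mul, smul_dotProduct, smul_eq_mul,
      show (m + 1).choose 2 = m.choose 1 + m.choose 2 from Nat.choose_succ_succ m 1, Nat.choose_one_right]
    congr 1
    · push_cast; rw [add_smul, one_smul]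
    · push_cast; rw [add_smul, one_smul]
    · push_cast; ring

end CfsgLib.Heisenberg
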