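import Mathlib
import Cfsg.Agent.Heisenberg.Matrices
import Cfsg.Agent.LargeEx.Basic
import Cfsg.Agent.S5434

set_option autoImplicit false

/-!
The centralizer of a transvection over the field with two elements: Heisenberg group by `GL n`.
-/

namespace CfsgLib.Heisenberg

open Matrix

variable {n : ℕ}

local notation "F₂" => ZMod 2

/-- The central involution. -/
def z0 (n : ℕ) : GL (Fin (n + 2)) F₂ := unit 0 0 1

theorem cases3 {P : Fin (n + 2) → Prop} (h0 : P 0) (hm : ∀ j : Fin n, P j.castSucc.succ)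
    (hl : P (Fin.last n).succ) : ∀ i, P i :=
  fun i => Fin.cases h0 (fun j => Fin.lastCases hl hm j) i

theorem last_ne_mid (j : Fin n) : Fin.last (n + 1) ≠ j.castSucc.succ := by
  rw [← Fin.succ_last]
  exact fun h => (Fin.castSucc_lt_last j).ne' (Fin.succ_injective _ h)

theorem mid_ne_last (j : Fin n) : j.castSucc.succ ≠ Fin.last (n + 1) := (last_ne_mid j).symm

theorem two_eq_zero₂ : (2 : F₂) = 0 := rfl

theorem zmod2_cases : ∀ x : F₂, x = 0 ∨ x = 1 := by decide

theorem neg_vec (a : Fin n → F₂) : -a = a := funext fun i => ZMod.neg_eq_self_mod_two (a i)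

theorem add_vec_self (a : Fin n → F₂) : a + a = 0 := by
  conv_lhs => arg 2; rw [← neg_vec a]
  exact add_neg_cancel a

theorem mat_apply_00 (a b : Fin n → F₂) (c : F₂) : mat a b c 0 0 = 1 := by
  simp [mat, vecMulVec_apply, mid, e0, eL]

theorem mat_apply_m0 (a b : Fin n → F₂) (c : F₂) (i : Fin n) : mat a b c i.castSucc.succ 0 = 0 := by
  simp [mat, vecMulVec_apply, mid, e0, eL, Matrix.one_apply, Fin.succ_ne_zero]

theorem mat_apply_l0 (a b : Fin n → F₂) (c : F₂) : mat a b c (Fin.last n).succ 0 = 0 := by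
  simp [mat, vecMulVec_apply, mid, e0, eL, Matrix.one_apply, Fin.succ_ne_zero]

theorem mat_apply_mm (a b : Fin n → F₂) (c : F₂) (i j : Fin n) :
    mat a b c i.castSucc.succ j.castSucc.succ = (1 : Matrix (Fin n) (Fin n) F₂) i j := by
  simp [mat, vecMulVec_apply, mid, e0, eL, Matrix.one_apply]

theorem mat_apply_lm (a b : Fin n → F₂) (c : F₂) (j : Fin n) :
    mat a b c (Fin.last n).succ j.castSucc.succ = 0 := by
  simp [mat, vecMulVec_apply, mid, e0, eL, Matrix.one_apply, last_ne_mid]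

theorem mat_apply_ll (a b : Fin n → F₂) (c : F₂) : mat a b c (Fin.last n).succ (Fin.last n).succ = 1 := by
  simp [mat, vecMulVec_apply, mid, e0, eL]

/-- The matrices fixing the first coordinate vector and the last coordinate form. -/
def stab (n : ℕ) : Subgroup (GL (Fin (n + 2)) F₂) := Subgroup.centralizer {z0 n}

theorem z0_val : ((z0 n : GL (Fin (n + 2)) F₂) : Matrix (Fin (n + 2)) (Fin (n + 2)) F₂) = 1 + vecMulVec e0 eL := by
  show mat 0 0 1 = _
  simp [mat, mid_zero]

theorem mem_stab_iff {g : GL (Fin (n + 2)) F₂} : g ∈ stab n ↔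
    (g : Matrix (Fin (n + 2)) (Fin (n + 2)) F₂) *ᵥ e0 = e0 ∧
    (eL : Fin (n + 2) → F₂) ᵥ* (g : Matrix (Fin (n + 2)) (Fin (n + 2)) F₂) = eL := by
  rw [stab, Subgroup.mem_centralizer_singleton_iff]
  constructor
  · intro h
    have h' : (g : Matrix (Fin (n + 2)) (Fin (n + 2)) F₂) * (1 + vecMulVec e0 eL) = (1 + vecMulVec e0 eL) * (g : Matrix (Fin (n + 2)) (Fin (n + 2)) F₂) := by
      rw [← z0_val, ← Units.val_mul, h, Units.val_mul]
    rw [mul_add, add_mul, one_mul, mul_one, add_right_inj, mul_vecMulVec, vecMulVec_mul] at h'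
    have hi : ∀ i j, (((g : Matrix (Fin (n + 2)) (Fin (n + 2)) F₂) *ᵥ e0) i) * (eL : Fin (n + 2) → F₂) j =
        (e0 : Fin (n + 2) → F₂) i * ((eL : Fin (n + 2) → F₂) ᵥ* (g : Matrix (Fin (n + 2)) (Fin (n + 2)) F₂)) j :=
      fun i j => by
        have := congrFun (congrFun h' i) j
        simpa only [vecMulVec_apply] using this
    have hl : (eL : Fin (n + 2) → F₂) (Fin.last n).succ = 1 := by simp [eL]
    have h00 : (e0 : Fin (n + 2) → F₂) 0 = 1 := by simp [e0]
    set r := ((eL : Fin (n + 2) → F₂) ᵥ* (g : Matrix (Fin (n + 2)) (Fin (n + 2)) F₂)) (Fin.last n).succ with hr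
    have hge : (g : Matrix (Fin (n + 2)) (Fin (n + 2)) F₂) *ᵥ e0 = r • e0 := funext fun i => by
      have := hi i (Fin.last n).succ
      rw [hl, mul_one] at this
      rw [this, Pi.smul_apply, smul_eq_mul, mul_comm]
    have hr1 : r = 1 := by
      refine (zmod2_cases r).resolve_left fun h0 => ?_
      rw [h0, zero_smul] at hge
      have := congrArg (fun v => ((g⁻¹ : GL (Fin (n + 2)) F₂) : Matrix (Fin (n + 2)) (Fin (n + 2)) F₂) *ᵥ v) hge
      simp only [mulVec_mulVec, ← Units.val_mul, inv_mul_cancel, Units.val_one, one_mulVec, mulVec_zero] at this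
      exact one_ne_zero (h00.symm.trans (congrFun this 0))
    rw [hr1, one_smul] at hge
    refine ⟨hge, funext fun j => ?_⟩
    have := hi 0 j
    rw [hge, h00, one_mul, one_mul] at this
    exact this.symm
  · rintro ⟨h1, h2⟩
    apply Units.ext
    rw [Units.val_mul, Units.val_mul, z0_val, mul_add, add_mul, one_mul, mul_one, mul_vecMulVec, vecMulVec_mul, h1, h2]

theorem stab_entries {g : GL (Fin (n + 2)) F₂} (hg : g ∈ stab n) :
    (∀ i, (g : Matrix (Fin (n + 2)) (Fin (n + 2)) F₂) i 0 = (e0 : Fin (n + 2) → F₂) i) ∧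
    ∀ j, (g : Matrix (Fin (n + 2)) (Fin (n + 2)) F₂) (Fin.last n).succ j = (eL : Fin (n + 2) → F₂) j := by
  obtain ⟨h1, h2⟩ := mem_stab_iff.1 hg
  have he : (e0 : Fin (n + 2) → F₂) = Pi.single 0 1 := funext fun i => by
    refine Fin.cases (by simp [e0]) (fun k => by simp [e0]) i
  have hl : (eL : Fin (n + 2) → F₂) = Pi.single (Fin.last n).succ 1 := funext fun i => by
    refine Fin.cases (by simp [eL, (Fin.succ_ne_zero _).symm]) (fun k => Fin.lastCases ?_ (fun j => ?_) k) i
    · simp [eL]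
    · simp [eL, (Fin.castSucc_lt_last j).ne]
  refine ⟨fun i => ?_, fun j => ?_⟩
  · have := congrFun h1 i
    rwa [he, mulVec_single_one, ← he] at this
  · have := congrFun h2 j
    rwa [hl, single_one_vecMul, ← hl] at this

/-- The middle block. -/
def block (g : GL (Fin (n + 2)) F₂) : Matrix (Fin n) (Fin n) F₂ :=
  fun i j => (g : Matrix (Fin (n + 2)) (Fin (n + 2)) F₂) i.castSucc.succ j.castSucc.succ

theorem block_mul {g h : GL (Fin (n + 2)) F₂} (hg : g ∈ stab n) (hh : h ∈ stab n) :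
    block (g * h) = block g * block h := by
  ext i j
  show ((g * h : GL (Fin (n + 2)) F₂) : Matrix (Fin (n + 2)) (Fin (n + 2)) F₂) _ _ = _
  rw [Units.val_mul, Matrix.mul_apply, Fin.sum_univ_succ, Fin.sum_univ_castSucc, Matrix.mul_apply]
  rw [(stab_entries hg).1, (stab_entries hh).2]
  simp [e0, eL, block]

theorem block_one : block (1 : GL (Fin (n + 2)) F₂) = 1 := by
  ext i j
  simp [block, Matrix.one_apply]

/-- The action on the middle coordinates. -/
def proj (n : ℕ) : ↥(stab n) →* GL (Fin n) F₂ where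
  toFun g := ⟨block g.1, block g⁻¹.1, by rw [← block_mul g.2 (g⁻¹).2, ← Subgroup.coe_mul, mul_inv_cancel, Subgroup.coe_one, block_one],
    by rw [← block_mul (g⁻¹).2 g.2, ← Subgroup.coe_mul, inv_mul_cancel, Subgroup.coe_one, block_one]⟩
  map_one' := Units.ext block_one
  map_mul' g h := Units.ext (block_mul g.2 h.2)

/-- A block matrix. -/
def jmat (A : Matrix (Fin n) (Fin n) F₂) : Matrix (Fin (n + 2)) (Fin (n + 2)) F₂ :=
  Fin.cons e0 (Fin.snoc (fun i => mid (A i)) eL)

theorem jmat_mul (A B : Matrix (Fin n) (Fin n) F₂) : jmat (A * B) = jmat A * jmat B := by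
  ext r c
  rw [Matrix.mul_apply, Fin.sum_univ_succ, Fin.sum_univ_castSucc]
  revert r
  refine cases3 ?_ (fun i => ?_) ?_
  · simp [jmat, e0, mid, eL]
  · revert c
    refine cases3 ?_ (fun j => ?_) ?_
    · simp [jmat, e0, mid, eL]
    · simp [jmat, e0, mid, eL, Matrix.mul_apply]
    · simp [jmat, e0, mid, eL]
  · simp [jmat, e0, mid, eL]

theorem jmat_one : jmat (1 : Matrix (Fin n) (Fin n) F₂) = 1 := by
  ext r c
  revert c
  revert r
  refine cases3 ?_ (fun i => ?_) ?_ <;>
    refine cases3 ?_ (fun j => ?_) ?_ <;>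
    simp [jmat, e0, mid, eL, Matrix.one_apply, Fin.succ_ne_zero, (Fin.succ_ne_zero _).symm,
      last_ne_mid, mid_ne_last]

/-- The complement. -/
def levi (n : ℕ) : GL (Fin n) F₂ →* GL (Fin (n + 2)) F₂ := Units.map
  { toFun := jmat, map_one' := jmat_one, map_mul' := jmat_mul }

theorem levi_mem (A : GL (Fin n) F₂) : levi n A ∈ stab n := by
  refine mem_stab_iff.2 ⟨funext fun r => ?_, funext fun c => ?_⟩
  · rw [Matrix.mulVec, dotProduct, Fin.sum_univ_succ, Fin.sum_univ_castSucc]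
    revert r
    refine cases3 ?_ (fun i => ?_) ?_ <;> simp [levi, jmat, e0, mid, eL]
  · rw [Matrix.vecMul, dotProduct, Fin.sum_univ_succ, Fin.sum_univ_castSucc]
    simp [levi, jmat, e0, eL]

theorem proj_levi (A : GL (Fin n) F₂) : proj n ⟨levi n A, levi_mem A⟩ = A := Units.ext <| by
  ext i j
  simp [proj, block, levi, jmat, mid]

theorem levi_injective : Function.Injective (levi n) := fun A B h => by
  rw [← proj_levi A, ← proj_levi B]
  exact congrArg _ (Subtype.ext h)

theorem unit_mem (a b : Fin n → F₂) (c : F₂) : unit a b c ∈ stab n := by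
  rw [stab, Subgroup.mem_centralizer_singleton_iff, z0, unit_mul, unit_mul]
  simp [add_comm]

theorem proj_unit (a b : Fin n → F₂) (c : F₂) : proj n ⟨unit a b c, unit_mem a b c⟩ = 1 := Units.ext <| by
  ext i j
  exact mat_apply_mm a b c i j

theorem mem_group_iff {g : GL (Fin (n + 2)) F₂} : g ∈ group F₂ n ↔ ∃ hg : g ∈ stab n, proj n ⟨g, hg⟩ = 1 := by
  constructor
  · rintro ⟨a, b, c, rfl⟩
    exact ⟨unit_mem a b c, proj_unit a b c⟩
  · rintro ⟨hg, hp⟩
    refine ⟨fun j => (g : Matrix (Fin (n + 2)) (Fin (n + 2)) F₂) 0 j.castSucc.succ, fun i => (g : Matrix (Fin (n + 2)) (Fin (n + 2)) F₂) i.castSucc.succ (Fin.last n).succ,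
      (g : Matrix (Fin (n + 2)) (Fin (n + 2)) F₂) 0 (Fin.last n).succ, Units.ext ?_⟩
    show (g : Matrix (Fin (n + 2)) (Fin (n + 2)) F₂) = mat _ _ _
    have hm : block g = 1 := congrArg Units.val hp
    obtain ⟨h1, h2⟩ := stab_entries hg
    ext r c
    revert c
    revert r
    refine cases3 ?_ (fun i => ?_) ?_
    · refine cases3 ?_ (fun j => ?_) ?_
      · rw [h1, mat_apply_00]; simp [e0]
      · rw [mat_apply_a]
      · rw [mat_apply_c]
    · refine cases3 ?_ (fun j => ?_) ?_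
      · rw [h1, mat_apply_m0]; simp [e0]
      · rw [mat_apply_mm]; exact congrFun (congrFun hm i) j
      · rw [mat_apply_b]
    · refine cases3 ?_ (fun j => ?_) ?_
      · rw [h2, mat_apply_l0]; simp [eL]
      · rw [h2, mat_apply_lm]; simp [eL]
      · rw [h2, mat_apply_ll]; simp [eL]

theorem group_le_stab : group F₂ n ≤ stab n := fun _ hg => (mem_group_iff.1 hg).1

theorem group_normalized {c x : GL (Fin (n + 2)) F₂} (hc : c ∈ stab n) (hx : x ∈ group F₂ n) :
    c * x * c⁻¹ ∈ group F₂ n := by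
  obtain ⟨hxs, hxp⟩ := mem_group_iff.1 hx
  refine mem_group_iff.2 ⟨mul_mem (mul_mem hc hxs) (inv_mem hc), ?_⟩
  rw [show (⟨c * x * c⁻¹, _⟩ : ↥(stab n)) = ⟨c, hc⟩ * ⟨x, hxs⟩ * ⟨c, hc⟩⁻¹ from rfl, map_mul, map_mul, map_inv,
    hxp, mul_one, mul_inv_cancel]

theorem decompose {g : GL (Fin (n + 2)) F₂} (hg : g ∈ stab n) :
    g * (levi n (proj n ⟨g, hg⟩))⁻¹ ∈ group F₂ n := by
  set A := proj n ⟨g, hg⟩ with hA
  refine mem_group_iff.2 ⟨mul_mem hg (inv_mem (levi_mem A)), ?_⟩
  rw [show (⟨g * (levi n A)⁻¹, _⟩ : ↥(stab n)) = ⟨g, hg⟩ * ⟨levi n A, levi_mem A⟩⁻¹ from rfl, map_mul, map_inv,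
    proj_levi, ← hA, mul_inv_cancel]

theorem group_inf_levi : group F₂ n ⊓ (levi n).range = ⊥ := by
  refine (Subgroup.eq_bot_iff_forall _).2 ?_
  rintro g ⟨hg, A, rfl⟩
  obtain ⟨hs, hp⟩ := mem_group_iff.1 hg
  rw [show A = 1 from (proj_levi A).symm.trans hp, map_one]

theorem group_sup_levi : group F₂ n ⊔ (levi n).range = stab n := by
  refine le_antisymm (sup_le group_le_stab ?_) fun g hg => ?_
  · rintro _ ⟨A, rfl⟩; exact levi_mem A
  · rw [← inv_mul_cancel_right g (levi n (proj n ⟨g, hg⟩))]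
    exact mul_mem (Subgroup.mem_sup_left (decompose hg)) (Subgroup.mem_sup_right ⟨_, rfl⟩)

theorem card_group : Nat.card ↥(group F₂ n) = 2 ^ (2 * n + 1) := by
  let f : (Fin n → F₂) × (Fin n → F₂) × F₂ → group F₂ n := fun u => ⟨unit u.1 u.2.1 u.2.2, _, _, _, rfl⟩
  have hf : Function.Bijective f := by
    refine ⟨fun u v h => ?_, ?_⟩
    · obtain ⟨h1, h2, h3⟩ := unit_injective (congrArg Subtype.val h)
      exact Prod.ext h1 (Prod.ext h2 h3)
    · rintro ⟨_, a, b, c, rfl⟩; exact ⟨(a, b, c), rfl⟩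
  rw [← Nat.card_congr (Equiv.ofBijective f hf), Nat.card_prod, Nat.card_prod, Nat.card_pi, Finset.prod_const,
    Finset.card_univ, Fintype.card_fin, Nat.card_zmod]
  ring

/-- The elementary subgroup. -/
def rowSub (n : ℕ) : Subgroup (GL (Fin (n + 2)) F₂) where
  carrier := {x | ∃ a c, x = unit a 0 c}
  one_mem' := ⟨0, 0, unit_zero.symm⟩
  mul_mem' := by
    rintro _ _ ⟨a, c, rfl⟩ ⟨a', c', rfl⟩
    exact ⟨a + a', c + c', by rw [unit_mul]; simp⟩
  inv_mem' := by
    rintro _ ⟨a, c, rfl⟩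
    exact ⟨-a, -c, by rw [unit_inv]; simp⟩

theorem rowSub_le : rowSub n ≤ group F₂ n := fun _ ⟨a, c, e⟩ => ⟨a, 0, c, e⟩

theorem rowSub_card : Nat.card ↥(rowSub n) = 2 ^ (n + 1) := by
  let f : (Fin n → F₂) × F₂ → rowSub n := fun u => ⟨unit u.1 0 u.2, _, _, rfl⟩
  have hf : Function.Bijective f := by
    refine ⟨fun u v h => ?_, ?_⟩
    · obtain ⟨h1, -, h3⟩ := unit_injective (congrArg Subtype.val h)
      exact Prod.ext h1 h3
    · rintro ⟨_, a, c, rfl⟩; exact ⟨(a, c), rfl⟩
  rw [← Nat.card_congr (Equiv.ofBijective f hf), Nat.card_prod, Nat.card_pi, Finset.prod_const,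
    Finset.card_univ, Fintype.card_fin, Nat.card_zmod]
  ring

theorem rowSub_elementary : Cfsg.IsElementaryAbelian 2 (rowSub n) := by
  refine ⟨⟨⟨?_⟩⟩, ?_⟩
  · rintro ⟨_, a, c, rfl⟩ ⟨_, a', c', rfl⟩
    refine Subtype.ext ?_
    show unit a 0 c * unit a' 0 c' = unit a' 0 c' * unit a 0 c
    rw [unit_mul, unit_mul]; simp [add_comm]
  · rintro _ ⟨a, c, rfl⟩
    rw [pow_two, unit_mul, add_vec_self, ← unit_zero]
    congr 1 <;> simp [ZMod.neg_eq_self_mod_two, ← two_mul, show (2 : F₂) = 0 from rfl]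

theorem group_isPGroup : IsPGroup 2 ↥(group F₂ n) := by
  rintro ⟨_, a, b, c, rfl⟩
  refine ⟨2, Subtype.ext ?_⟩
  show unit a b c ^ 2 ^ 2 = 1
  rw [unit_pow, ← unit_zero, show (2 ^ 2 : ℕ) = 4 from rfl, show Nat.choose 4 2 = 6 from rfl,
    show ((4 : ℕ) : F₂) = 0 from rfl, show ((6 : ℕ) : F₂) = 0 from rfl]
  simp

/-- An element centralizing the Heisenberg group is central in it. -/
theorem centralizes (hn : 1 ≤ n) {g : GL (Fin (n + 2)) F₂} (h : ∀ x ∈ group F₂ n, g * x = x * g) :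
    g = 1 ∨ g = z0 n := by
  have hg : g ∈ stab n := Subgroup.mem_centralizer_singleton_iff.2 (h _ ⟨0, 0, 1, rfl⟩)
  obtain ⟨h1, h2⟩ := stab_entries hg
  set M : Matrix (Fin (n + 2)) (Fin (n + 2)) F₂ := (g : Matrix (Fin (n + 2)) (Fin (n + 2)) F₂) with hM
  have hcomm : ∀ a b c, M * mat a b c = mat a b c * M := fun a b c => by
    have := congrArg Units.val (h _ ⟨a, b, c, rfl⟩)
    simpa [unit] using this
  -- compare the entries of the products with the generators
  have hmulA : ∀ (a : Fin n → F₂) r c, (M * mat a 0 0) r c = M r c + (e0 : Fin (n + 2) → F₂) r * mid a c := by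
    intro a r c
    rw [mat, mid_zero, zero_vecMulVec, zero_smul, add_zero, add_zero, mul_add, mul_one, mul_vecMulVec,
      Matrix.add_apply, vecMulVec_apply]
    congr 2
    rw [Matrix.mulVec, dotProduct, Fin.sum_univ_succ]
    simp [e0, h1 r]
  have hAmul : ∀ (a : Fin n → F₂) r c, (mat a 0 0 * M) r c = M r c + (e0 : Fin (n + 2) → F₂) r * (mid a ᵥ* M) c := by
    intro a r c
    rw [mat, mid_zero, zero_vecMulVec, zero_smul, add_zero, add_zero, add_mul, one_mul, vecMulVec_mul,
      Matrix.add_apply, vecMulVec_apply]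
  have hrow : ∀ (j : Fin n) c, M j.castSucc.succ c = mid (Pi.single j (1 : F₂)) c := by
    intro j c
    have e := congrFun (congrFun (hcomm (Pi.single j 1) 0 0) 0) c
    rw [hmulA, hAmul] at e
    have e' := add_left_cancel e
    simp only [e0, Fin.cons_zero, one_mul] at e'
    rw [e', Matrix.vecMul, dotProduct, Fin.sum_univ_succ, Fin.sum_univ_castSucc]
    simp [mid, Pi.single_apply]
  have hmulB : ∀ (b : Fin n → F₂) r c, (M * mat 0 b 0) r c = M r c + (M *ᵥ mid b) r * (eL : Fin (n + 2) → F₂) c := by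
    intro b r c
    rw [mat, mid_zero, vecMulVec_zero, zero_smul, add_zero, add_zero, mul_add, mul_one, mul_vecMulVec,
      Matrix.add_apply, vecMulVec_apply]
  have hBmul : ∀ (b : Fin n → F₂) r c, (mat 0 b 0 * M) r c = M r c + mid b r * (eL : Fin (n + 2) → F₂) c := by
    intro b r c
    rw [mat, mid_zero, vecMulVec_zero, zero_smul, add_zero, add_zero, add_mul, one_mul, vecMulVec_mul,
      Matrix.add_apply, vecMulVec_apply]
    congr 2
    rw [Matrix.vecMul, dotProduct, Fin.sum_univ_succ, Fin.sum_univ_castSucc]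
    have := h2 c; rw [Fin.succ_last] at this; simp [eL] at this ⊢; exact this
  have hcol : ∀ j : Fin n, M 0 j.castSucc.succ = 0 := by
    intro j
    have e := congrFun (congrFun (hcomm 0 (Pi.single j 1) 0) 0) (Fin.last n).succ
    rw [hmulB, hBmul] at e
    have e' := add_left_cancel e
    rw [Matrix.mulVec, dotProduct, Fin.sum_univ_succ, Fin.sum_univ_castSucc] at e'
    simpa [mid, eL, Pi.single_apply] using e'
  have hb : ∀ j : Fin n, M j.castSucc.succ (Fin.last n).succ = 0 := fun j => by rw [hrow]; simp [mid]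
  have hgz : g = unit 0 0 (M 0 (Fin.last n).succ) := by
    obtain ⟨a, b, c, rfl⟩ := mem_group_iff.2 ⟨hg, Units.ext (by
      ext i j
      show M i.castSucc.succ j.castSucc.succ = (1 : Matrix (Fin n) (Fin n) F₂) i j
      rw [hrow]
      simp [mid, Pi.single_apply, Matrix.one_apply, eq_comm])⟩
    have hMm : M = mat a b c := rfl
    have h3 : a = 0 := funext fun j => by rw [← mat_apply_a a b c j, ← hMm, hcol]; rfl
    have h4 : b = 0 := funext fun j => by rw [← mat_apply_b a b c j, ← hMm, hb]; rfl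
    have h5 : M 0 (Fin.last n).succ = c := by rw [hMm, mat_apply_c]
    rw [h3, h4, h5]
  rcases zmod2_cases (M 0 (Fin.last n).succ) with e | e <;> rw [e] at hgz
  · exact Or.inl (hgz.trans unit_zero)
  · exact Or.inr hgz

theorem extraData (hn : 1 ≤ n) : CfsgLib.LargeEx.ExtraData (group F₂ n) (z0 n) where
  mem := ⟨0, 0, 1, rfl⟩
  ne_one h := by
    have := (unit_injective (h.trans unit_zero.symm)).2.2
    exact one_ne_zero this
  sq := by
    rw [z0, unit_mul, ← unit_zero]
    simp [show (1 : F₂) + 1 = 0 from rfl]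
  comm := by
    rintro _ ⟨a, b, c, rfl⟩
    rw [z0, unit_mul, unit_mul]
    simp [add_comm]
  central c _ h := centralizes hn h
  bracket := by
    rintro _ ⟨a, b, c, rfl⟩ _ ⟨a', b', c', rfl⟩
    rw [z0, unit_mul, unit_mul, unit_mul]
    rcases zmod2_cases (a ⬝ᵥ b' + a' ⬝ᵥ b) with h | h
    · left
      have : a ⬝ᵥ b' = a' ⬝ᵥ b := by
        rw [add_eq_zero_iff_eq_neg, ZMod.neg_eq_self_mod_two] at h; exact h
      rw [this, add_comm a', add_comm b', add_comm c']
    · right
      simp only [add_zero, dotProduct_zero, add_comm a', add_comm b']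
      congr 1
      linear_combination h - (a' ⬝ᵥ b) * two_eq_zero₂
  center_eq := by
    have hz : z0 n ∈ group F₂ n := ⟨0, 0, 1, rfl⟩
    refine le_antisymm ?_ ?_
    · rintro _ ⟨c, hc, rfl⟩
      rcases centralizes hn (g := (c : GL (Fin (n + 2)) F₂)) fun x hx =>
          (congrArg Subtype.val (Subgroup.mem_center_iff.1 hc ⟨x, hx⟩)).symm with h | h <;>
        simp [h]
    · rw [Subgroup.zpowers_le]
      refine ⟨⟨z0 n, hz⟩, Subgroup.mem_center_iff.2 ?_, rfl⟩
      rintro ⟨_, a, b, c, rfl⟩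
      refine Subtype.ext ?_
      show unit a b c * z0 n = z0 n * unit a b c
      rw [z0, unit_mul, unit_mul]; simp [add_comm]
  nonabelian := by
    refine ⟨unit (Pi.single ⟨0, hn⟩ 1) 0 0, ⟨_, _, _, rfl⟩, unit 0 (Pi.single ⟨0, hn⟩ 1) 0, ⟨_, _, _, rfl⟩, fun h => ?_⟩
    rw [unit_mul, unit_mul] at h
    have := (unit_injective h).2.2
    simp [dotProduct_single] at this
  isPGroup := group_isPGroup

theorem isExtraspecial (hn : 1 ≤ n) : Cfsg.IsExtraspecial 2 ↥(group F₂ n) :=
  Cfsg.Agent.S5434.isExtraspecial_of (extraData hn) le_rfl (extraData hn).mem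
    (fun r hr h => (extraData hn).central r hr h) (extraData hn).nonabelian

/-- `GL n` over the field with two elements has no non-trivial normal 2-subgroup. -/
theorem pCore_GL_eq_bot : Cfsg.pCore 2 (GL (Fin n) F₂) = ⊥ := by
  haveI : Fact (Nat.Prime 2) := ⟨Nat.prime_two⟩
  haveI hN := CfsgLib.LargeEx.pCore_normal (G := GL (Fin n) F₂) 2
  set N := Cfsg.pCore 2 (GL (Fin n) F₂) with hNdef
  rcases Nat.eq_zero_or_pos n with rfl | hn
  · exact Subsingleton.elim _ _
  have hdvd : 2 ∣ Nat.card (Fin n → F₂) := by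
    rw [Nat.card_pi, Finset.prod_const, Finset.card_univ, Fintype.card_fin, Nat.card_zmod]
    exact dvd_pow_self 2 hn.ne'
  letI : MulAction ↥N (Fin n → F₂) :=
    { smul := fun g v => ((g : GL (Fin n) F₂) : Matrix (Fin n) (Fin n) F₂) *ᵥ v
      one_smul := fun v => by
        show ((1 : GL (Fin n) F₂) : Matrix (Fin n) (Fin n) F₂) *ᵥ v = v
        simp
      mul_smul := fun g h v => by
        show (((g : GL (Fin n) F₂) * h : GL (Fin n) F₂) : Matrix (Fin n) (Fin n) F₂) *ᵥ v = _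
        rw [Units.val_mul, ← mulVec_mulVec]; rfl }
  have hfix0 : (0 : Fin n → F₂) ∈ MulAction.fixedPoints ↥N (Fin n → F₂) := fun g => mulVec_zero _
  obtain ⟨v, hv, hv0⟩ := (CfsgLib.LargeEx.isPGroup_pCore 2).exists_fixed_point_of_prime_dvd_card_of_fixed_point
    _ hdvd hfix0
  -- any non-zero vector is the image of `v` under an involution
  have hall : ∀ w : Fin n → F₂, w ≠ 0 → ∀ g ∈ N, (g : Matrix (Fin n) (Fin n) F₂) *ᵥ w = w := by
    intro w hw g hg
    by_cases hwv : w = v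
    · rw [hwv]; exact hv ⟨g, hg⟩
    obtain ⟨φ, hφv, hφw⟩ : ∃ φ : Fin n → F₂, φ ⬝ᵥ v = 1 ∧ φ ⬝ᵥ w = 1 := by
      by_cases hij : ∃ i, v i = 1 ∧ w i = 1
      · obtain ⟨i, h1, h2⟩ := hij
        exact ⟨Pi.single i 1, by rw [single_dotProduct, one_mul, h1], by rw [single_dotProduct, one_mul, h2]⟩
      push Not at hij
      obtain ⟨i, hi⟩ : ∃ i, v i = 1 := by
        by_contra h
        push Not at h
        exact hv0 (funext fun i => ((zmod2_cases (v i)).resolve_right (h i)).symm)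
      obtain ⟨j, hj⟩ : ∃ j, w j = 1 := by
        by_contra h
        push Not at h
        exact hw (funext fun i => (zmod2_cases (w i)).resolve_right (h i))
      have hwi : w i = 0 := (zmod2_cases (w i)).resolve_right (hij i hi)
      have hvj : v j = 0 := (zmod2_cases (v j)).resolve_right fun h => hij j h hj
      exact ⟨Pi.single i 1 + Pi.single j 1, by simp [add_dotProduct, single_dotProduct, hi, hvj],
        by simp [add_dotProduct, single_dotProduct, hj, hwi]⟩
    let T : Matrix (Fin n) (Fin n) F₂ := 1 + vecMulVec (w + v) φ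
    have hz : φ ⬝ᵥ (w + v) = 0 := by rw [dotProduct_add, hφv, hφw]; rfl
    have hTT : T * T = 1 := by
      simp only [T, mul_add, add_mul, one_mul, mul_one, vecMulVec_mul_vecMulVec, hz, zero_smul, vecMulVec_zero,
        add_zero]
      ext i j
      simp only [Matrix.add_apply, add_assoc, ← two_mul, show (2 : F₂) = 0 from rfl, zero_mul, add_zero]
    have hTv : T *ᵥ v = w := by
      funext i
      simp only [T, add_mulVec, one_mulVec, Pi.add_apply, vecMulVec_mulVec, hφv, MulOpposite.op_one, one_smul]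
      linear_combination (v i) * two_eq_zero₂
    let t : GL (Fin n) F₂ := ⟨T, T, hTT, hTT⟩
    have h1 := hv ⟨t⁻¹ * g * t⁻¹⁻¹, hN.conj_mem g hg t⁻¹⟩
    change (T * (g : Matrix (Fin n) (Fin n) F₂) * T) *ᵥ v = v at h1
    rw [← mulVec_mulVec, hTv] at h1
    have h2 := congrArg (fun u => T *ᵥ u) h1
    simp only [mulVec_mulVec, ← mul_assoc, hTT, one_mul, hTv] at h2
    exact h2
  refine (Subgroup.eq_bot_iff_forall _).2 fun g hg => Units.ext ?_
  ext i j
  have hne : (Pi.single j 1 : Fin n → F₂) ≠ 0 := Pi.single_ne_zero_iff.2 one_ne_zero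
  have := congrFun (hall _ hne g hg) i
  rw [mulVec_single_one] at this
  rw [Units.val_one]
  simpa [Matrix.one_apply, Pi.single_apply] using this

theorem eq_group_of_normal {N : Subgroup (GL (Fin (n + 2)) F₂)} (hle : N ≤ stab n)
    (hnorm : ∀ c ∈ stab n, ∀ x ∈ N, c * x * c⁻¹ ∈ N) (hp : IsPGroup 2 N) : N ≤ group F₂ n := by
  let N' : Subgroup (GL (Fin n) F₂) := (N.subgroupOf (stab n)).map (proj n)
  haveI : (N.subgroupOf (stab n)).Normal := (Subgroup.normal_subgroupOf_iff hle).2 fun x c hx hc => hnorm c hc x hx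
  have hsurj : Function.Surjective (proj n) := fun A => ⟨⟨levi n A, levi_mem A⟩, proj_levi A⟩
  have hN' : N'.Normal := Subgroup.Normal.map inferInstance _ hsurj
  have hle' : N' ≤ Cfsg.pCore 2 (GL (Fin n) F₂) := fun x hx =>
    Subgroup.mem_sSup_of_mem (S := {M : Subgroup (GL (Fin n) F₂) | M.Normal ∧ IsPGroup 2 M})
      ⟨hN', (hp.of_equiv (Subgroup.subgroupOfEquivOfLe hle).symm).map _⟩ hx
  rw [pCore_GL_eq_bot] at hle'
  exact fun x hx => mem_group_iff.2 ⟨hle hx, Subgroup.mem_bot.1 (hle' ⟨⟨x, hle hx⟩, hx, rfl⟩)⟩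

end CfsgLib.Heisenberg
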