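import Mathlib
import Cfsg.Agent.Heisenberg.Centralizer

set_option autoImplicit false

/-!
Involution centralizers isomorphic to Heisenberg by `GL n`.
-/

namespace CfsgLib.Heisenberg

local notation "F₂" => ZMod 2

variable {G : Type*} [Group G] [Finite G] {n : ℕ}

theorem transfer (hn : 1 ≤ n) (f : G →* GL (Fin (n + 2)) F₂) (hf : Function.Injective f)
    (hr : stab n ≤ f.range) {z : G} (hz : f z = z0 n) (Q : Subgroup G)
    (hQ : Q = (Cfsg.pCore 2 ↥(Subgroup.centralizer ({z} : Set G))).map (Subgroup.centralizer ({z} : Set G)).subtype) :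
    (Q = (group F₂ n).comap f) ∧ Cfsg.IsExtraspecial 2 ↥Q ∧ Nat.card ↥Q = 2 ^ (2 * n + 1) ∧
      (∃ E : Subgroup G, E ≤ Q ∧ Cfsg.IsElementaryAbelian 2 E ∧ Nat.card ↥E = 2 ^ (n + 1)) ∧
      Subgroup.centralizer (Q : Set G) = (Subgroup.center ↥Q).map Q.subtype ∧
      Subgroup.centralizer (((Subgroup.center ↥Q).map Q.subtype : Subgroup G) : Set G) ≤ Subgroup.normalizer (Q : Set G) ∧
      (Subgroup.center ↥Q).map Q.subtype = Subgroup.zpowers z ∧
      ∃ K : Subgroup G, K ≤ Subgroup.centralizer ({z} : Set G) ∧ Q ⊓ K = ⊥ ∧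
        Q ⊔ K = Subgroup.centralizer ({z} : Set G) ∧ Nonempty (↥K ≃* GL (Fin n) F₂) := by
  haveI : Fact (Nat.Prime 2) := ⟨Nat.prime_two⟩
  set C := Subgroup.centralizer ({z} : Set G) with hC
  have hCf : ∀ g, g ∈ C ↔ f g ∈ stab n := fun g => by
    rw [hC, Subgroup.mem_centralizer_singleton_iff, stab, Subgroup.mem_centralizer_singleton_iff, ← hz, ← map_mul,
      ← map_mul, hf.eq_iff]
  set H := (group F₂ n).comap f with hH
  have hHC : H ≤ C := fun g hg => (hCf g).2 (group_le_stab hg)
  have hlift : ∀ x ∈ stab n, ∃ g ∈ C, f g = x := fun x hx => by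
    obtain ⟨g, rfl⟩ := hr hx
    exact ⟨g, (hCf g).2 hx, rfl⟩
  have hHnorm : ∀ c ∈ C, ∀ x ∈ H, c * x * c⁻¹ ∈ H := fun c hc x hx => by
    show f (c * x * c⁻¹) ∈ group F₂ n
    rw [map_mul, map_mul, map_inv]
    exact group_normalized ((hCf c).1 hc) hx
  have hmap : H.map f = group F₂ n := by
    rw [hH, Subgroup.map_comap_eq_self (group_le_stab.trans hr)]
  let e : ↥H ≃* ↥(group F₂ n) := (H.equivMapOfInjective f hf).trans (MulEquiv.subgroupCongr hmap)
  have hp : IsPGroup 2 ↥H := group_isPGroup.of_equiv e.symm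
  have hQH : Q = H := by
    rw [hQ]
    haveI : (Cfsg.pCore 2 C).Normal := CfsgLib.LargeEx.pCore_normal 2
    refine le_antisymm ?_ fun g hg => ⟨⟨g, hHC hg⟩, ?_, rfl⟩
    · set N := (Cfsg.pCore 2 C).map C.subtype with hN
      have hNC : N ≤ C := Subgroup.map_subtype_le _
      intro g hg
      show f g ∈ group F₂ n
      refine eq_group_of_normal (N := N.map f) ?_ ?_
        (((CfsgLib.LargeEx.isPGroup_pCore 2).map C.subtype).map f) ⟨g, hg, rfl⟩
      · rintro _ ⟨x, hx, rfl⟩; exact (hCf x).1 (hNC hx)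
      · rintro c hc _ ⟨x, hx, rfl⟩
        obtain ⟨c, hcC, rfl⟩ := hlift c hc
        obtain ⟨x, hx, rfl⟩ := hx
        exact ⟨c * x * c⁻¹, ⟨⟨c, hcC⟩ * x * ⟨c, hcC⟩⁻¹, Subgroup.Normal.conj_mem inferInstance x hx _, rfl⟩, by simp⟩
    · exact Subgroup.mem_sSup_of_mem (S := {N : Subgroup ↥C | N.Normal ∧ IsPGroup 2 N})
        ⟨(Subgroup.normal_subgroupOf_iff hHC).2 fun x c hx hc => hHnorm c hc x hx,
          hp.of_equiv (Subgroup.subgroupOfEquivOfLe hHC).symm⟩ hg
  subst hQH
  have hzH : z ∈ H := by show f z ∈ group F₂ n; rw [hz]; exact ⟨0, 0, 1, rfl⟩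
  have hd := extraData hn
  have hz1 : z ≠ 1 := fun h => hd.ne_one (by rw [← hz, h, map_one])
  have hzz : z * z = 1 := hf (by rw [map_mul, map_one, hz, hd.sq])
  have hE : CfsgLib.LargeEx.ExtraData H z :=
    { mem := hzH
      ne_one := hz1
      sq := hzz
      comm := fun x hx => hf (by rw [map_mul, map_mul, hz]; exact hd.comm _ hx)
      central := fun c hc h => by
        rcases hd.central (f c) hc (fun y hy => by
          obtain ⟨x, rfl⟩ := hr (group_le_stab hy)
          rw [← map_mul, ← map_mul, h x hy]) with h' | h'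
        · exact Or.inl (hf (h'.trans (map_one f).symm))
        · exact Or.inr (hf (h'.trans hz.symm))
      bracket := fun x hx y hy => by
        rcases hd.bracket _ hx _ hy with h | h
        · exact Or.inl (hf (by simpa using h))
        · exact Or.inr (hf (by simpa [hz] using h))
      center_eq := by
        refine le_antisymm ?_ ?_
        · rintro _ ⟨c, hc, rfl⟩
          rcases hd.central (f c) c.2 (fun y hy => by
            obtain ⟨x, rfl⟩ := hr (group_le_stab hy)
            have := congrArg Subtype.val (Subgroup.mem_center_iff.1 hc ⟨x, hy⟩)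
            rw [← map_mul, ← map_mul]; exact congrArg f this.symm) with h' | h'
          · rw [show H.subtype c = 1 from hf (h'.trans (map_one f).symm)]; exact one_mem _
          · rw [show H.subtype c = z from hf (h'.trans hz.symm)]; exact Subgroup.mem_zpowers z
        · rw [Subgroup.zpowers_le]
          refine ⟨⟨z, hzH⟩, Subgroup.mem_center_iff.2 fun x => Subtype.ext (hf ?_), rfl⟩
          show f ((x : G) * z) = f (z * x)
          rw [map_mul, map_mul, hz, hd.comm _ x.2]
      nonabelian := by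
        obtain ⟨x, hx, y, hy, hne⟩ := hd.nonabelian
        obtain ⟨x, rfl⟩ := hr (group_le_stab hx)
        obtain ⟨y, rfl⟩ := hr (group_le_stab hy)
        exact ⟨x, hx, y, hy, fun h => hne (by rw [← map_mul, h, map_mul])⟩
      isPGroup := hp }
  refine ⟨rfl, Cfsg.Agent.S5434.isExtraspecial_of hE le_rfl hzH (fun r hr' h => hE.central r hr' h) hE.nonabelian,
    by rw [Nat.card_congr e.toEquiv, card_group], ?_, ?_, ?_, hE.center_eq, ?_⟩
  · have hmapE : ((rowSub n).comap f).map f = rowSub n :=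
      Subgroup.map_comap_eq_self ((rowSub_le.trans group_le_stab).trans hr)
    refine ⟨(rowSub n).comap f, Subgroup.comap_mono rowSub_le, ⟨⟨⟨fun a b => ?_⟩⟩, fun a ha => hf ?_⟩, ?_⟩
    · refine Subtype.ext (hf ?_)
      have := rowSub_elementary (n := n).1
      simp only [Subgroup.coe_mul, map_mul]
      exact congrArg Subtype.val (mul_comm' (⟨f a, a.2⟩ : rowSub n) ⟨f b, b.2⟩)
    · rw [map_pow, map_one]; exact rowSub_elementary.2 _ ha
    · rw [Nat.card_congr ((((rowSub n).comap f).equivMapOfInjective f hf).trans (MulEquiv.subgroupCongr hmapE)).toEquiv,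
        rowSub_card]
  · refine le_antisymm (fun c hc => ?_) ?_
    · rw [hE.mem_center_iff]
      rcases centralizes hn (g := f c) (fun y hy => by
        obtain ⟨x, rfl⟩ := hr (group_le_stab hy)
        rw [← map_mul, ← map_mul, Subgroup.mem_centralizer_iff.1 hc x hy]) with h | h
      · exact Or.inl (hf (h.trans (map_one f).symm))
      · exact Or.inr (hf (h.trans hz.symm))
    · intro c hc
      rw [Subgroup.mem_centralizer_iff]
      intro x hx
      rcases hE.mem_center_iff.1 hc with rfl | rfl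
      · simp
      · exact (hE.comm x hx).symm
  · intro c hc
    have hcC : c ∈ C := by
      rw [hC, Subgroup.mem_centralizer_singleton_iff]
      exact (Subgroup.mem_centralizer_iff.1 hc z (hE.mem_center_iff.2 (Or.inr rfl))).symm
    refine Subgroup.mem_normalizer_iff.2 fun x => ⟨hHnorm c hcC x, fun hx => ?_⟩
    have := hHnorm c⁻¹ (inv_mem hcC) _ hx
    simpa [mul_assoc] using this
  · set K := (levi n).range.comap f with hK
    have hKle : K ≤ C := fun g ⟨A, hA⟩ => (hCf g).2 (hA ▸ levi_mem A)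
    have hKmap : K.map f = (levi n).range := Subgroup.map_comap_eq_self (by
      rintro _ ⟨A, rfl⟩; exact hr (levi_mem A))
    refine ⟨K, hKle, ?_, le_antisymm (sup_le hHC hKle) fun g hg => ?_, ⟨((K.equivMapOfInjective f hf).trans
      (MulEquiv.subgroupCongr hKmap)).trans (MonoidHom.ofInjective levi_injective).symm⟩⟩
    · rw [hK, ← Subgroup.comap_inf, group_inf_levi, MonoidHom.comap_bot, (MonoidHom.ker_eq_bot_iff f).2 hf]
    · have hs : f g ∈ stab n := (hCf g).1 hg
      obtain ⟨k, hk⟩ := hr (levi_mem (proj n ⟨f g, hs⟩))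
      rw [← inv_mul_cancel_right g k]
      refine mul_mem (Subgroup.mem_sup_left ?_) (Subgroup.mem_sup_right ⟨proj n ⟨f g, hs⟩, hk.symm⟩)
      show f (g * k⁻¹) ∈ group F₂ n
      rw [map_mul, map_inv, hk]
      exact decompose hs

end CfsgLib.Heisenberg
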