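/-
The affine matrix representation of a split extension of an elementary abelian group by all its automorphisms.
-/
import Cfsg.Agent.S5423

set_option autoImplicit false

namespace CfsgLib.Heisenberg.Affine

open Cfsg Matrix CfsgLib.Heisenberg Cfsg.Agent.S5423
open scoped Pointwise

theorem exists_embedding {G : Type*} [Group G] [Finite G] (n : ℕ) (U M : Subgroup G) [U.Normal]
    (hU : Cfsg.IsElementaryAbelian 2 U) (hUcard : Nat.card ↥U = 2 ^ (n + 1)) (hUM : U ⊓ M = ⊥)
    (hUM' : U ⊔ M = ⊤) (hfaith : ∀ m ∈ M, (∀ u ∈ U, m * u * m⁻¹ = u) → m = 1)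
    (hfull : ∀ φ : ↥U ≃* ↥U, ∃ m ∈ M, ∀ u : ↥U, ((φ u : ↥U) : G) = m * u * m⁻¹)
    (z : G) (hzU : z ∈ U) (hz1 : z ≠ 1) :
    ∃ f : G →* GL (Fin (n + 2)) (ZMod 2), Function.Injective f ∧ stab n ≤ f.range ∧ f z = z0 n := by
  classical
  obtain ⟨φ, hφb, hφ, hφz⟩ := exists_coord hU hUcard (z := ⟨z, hzU⟩)
    (fun h => hz1 (congrArg Subtype.val h))
  let Φ : ↥U ≃ (Fin (n + 1) → ZMod 2) := Equiv.ofBijective φ hφb
  have hφ0 : φ 1 = 0 := by
    have := hφ 1 1
    rw [mul_one] at this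
    exact left_eq_add.1 this
  have hΦ : ∀ v w, Φ.symm (v + w) = Φ.symm v * Φ.symm w := fun v w => hφb.1 (by
    rw [hφ]
    show Φ (Φ.symm _) = Φ (Φ.symm v) + Φ (Φ.symm w)
    simp)
  let cj : G → ↥U → ↥U := fun g u => ⟨g * u * g⁻¹, Subgroup.Normal.conj_mem inferInstance _ u.2 g⟩
  have cjmul : ∀ g a b, cj g (a * b) = cj g a * cj g b := fun g a b => Subtype.ext (by simp [cj, mul_assoc])
  let L : G → (Fin (n + 1) → ZMod 2) →ₗ[ZMod 2] (Fin (n + 1) → ZMod 2) := fun g =>
    AddMonoidHom.toZModLinearMap 2 (AddMonoidHom.mk' (fun v => φ (cj g (Φ.symm v)))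
      (fun v w => by rw [hΦ, cjmul, hφ]))
  let A : G → Matrix (Fin (n + 1)) (Fin (n + 1)) (ZMod 2) := fun g => LinearMap.toMatrix' (L g)
  have hA : ∀ g u, A g *ᵥ φ u = φ (cj g u) := fun g u => by
    show LinearMap.toMatrix' (L g) *ᵥ _ = _
    rw [LinearMap.toMatrix'_mulVec]
    show φ (cj g (Φ.symm (Φ u))) = _
    rw [Equiv.symm_apply_apply]
  have hext : ∀ B B' : Matrix (Fin (n + 1)) (Fin (n + 1)) (ZMod 2), (∀ u, B *ᵥ φ u = B' *ᵥ φ u) → B = B' :=
    fun B B' h => Matrix.toLin'.injective (LinearMap.ext fun v => by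
      obtain ⟨u, rfl⟩ := hφb.2 v
      simpa using h u)
  have hA1 : ∀ g, (∀ u : ↥U, g * u * g⁻¹ = (u : G)) → A g = 1 := fun g hg => hext _ _ fun u => by
    rw [hA, one_mulVec, show cj g u = u from Subtype.ext (hg u)]
  have hAmul : ∀ g h, A (g * h) = A g * A h := fun g h => hext _ _ fun u => by
    rw [← mulVec_mulVec, hA, hA, hA]
    congr 1
    exact Subtype.ext (by simp [cj, mul_assoc])
  have hdec : ∀ g : G, ∃ u : ↥U, (u : G)⁻¹ * g ∈ M := fun g => by
    obtain ⟨u, hu, m, hm, rfl⟩ := Set.mem_mul.1 (show g ∈ (U : Set G) * (M : Set G) by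
      rw [← Subgroup.normal_mul, hUM']; trivial)
    exact ⟨⟨u, hu⟩, by simpa using hm⟩
  choose uc hmc using hdec
  have huniq' : ∀ (g : G) (u : ↥U), (u : G)⁻¹ * g ∈ M → uc g = u := fun g u hu => by
    refine Subtype.ext ?_
    have h1 : (uc g : G)⁻¹ * u ∈ U ⊓ M := ⟨U.mul_mem (U.inv_mem (uc g).2) u.2, by
      rw [show (uc g : G)⁻¹ * u = ((uc g : G)⁻¹ * g) * ((u : G)⁻¹ * g)⁻¹ by group]
      exact M.mul_mem (hmc g) (M.inv_mem hu)⟩
    rw [hUM, Subgroup.mem_bot, inv_mul_eq_one] at h1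
    exact h1
  haveI := hU.1
  have hUc : ∀ a b : ↥U, (a : G) * b = b * a := fun a b => congrArg Subtype.val (mul_comm' a b)
  have hucmul : ∀ g h, uc (g * h) = uc g * cj g (uc h) := fun g h => huniq' _ _ <| by
    have e : ((uc g * cj g (uc h) : ↥U) : G)⁻¹ * (g * h) = ((uc g : G)⁻¹ * g) * ((uc h : G)⁻¹ * h) := by
      rw [show uc g * cj g (uc h) = cj g (uc h) * uc g from mul_comm' _ _]
      simp [cj, mul_assoc]
    rw [e]
    exact mul_mem (hmc g) (hmc h)
  let F : G →* Matrix (Fin (n + 2)) (Fin (n + 2)) (ZMod 2) :=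
    { toFun := fun g => affMat (A g) (φ (uc g))
      map_one' := by
        rw [hA1 1 (fun u => by simp), huniq' 1 1 (by simp), hφ0, affMat_one]
      map_mul' := fun g h => by rw [affMat_mul, hA, ← hAmul, ← hφ, ← hucmul] }
  let f : G →* GL (Fin (n + 2)) (ZMod 2) := F.toHomUnits
  have hfval : ∀ g, ((f g : GL (Fin (n + 2)) (ZMod 2)) : Matrix (Fin (n + 2)) (Fin (n + 2)) (ZMod 2)) =
      affMat (A g) (φ (uc g)) := fun g => rfl
  have hf : Function.Injective f := by
    rw [← MonoidHom.ker_eq_bot_iff, Subgroup.eq_bot_iff_forall]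
    intro g hg
    have h1 : affMat (A g) (φ (uc g)) = 1 := by rw [← hfval, MonoidHom.mem_ker.1 hg, Units.val_one]
    have hu : uc g = 1 := by
      refine hφb.1 (funext fun i => ?_)
      have := congrFun (congrFun h1 i.castSucc) (Fin.last (n + 1))
      simpa [affMat, Matrix.one_apply, (Fin.castSucc_lt_last i).ne, hφ0] using this
    have hAg : A g = 1 := by
      ext i j
      have := congrFun (congrFun h1 i.castSucc) j.castSucc
      simpa [affMat, Matrix.one_apply] using this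
    have hgM : g ∈ M := by simpa [hu] using hmc g
    refine hfaith g hgM fun u hu' => ?_
    have := hA g ⟨u, hu'⟩
    rw [hAg, one_mulVec] at this
    exact (congrArg Subtype.val (hφb.1 this)).symm
  have hfz : f z = z0 n := by
    refine Units.ext ?_
    rw [hfval, z0_val, hA1 z (fun u => by rw [hUc ⟨z, hzU⟩ u, mul_inv_cancel_right]), huniq' z ⟨z, hzU⟩ (by simp), hφz]
    ext r c
    revert c
    revert r
    refine Fin.lastCases ?_ fun i => ?_ <;> refine Fin.lastCases ?_ fun j => ?_ <;>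
      simp [affMat, vecMulVec_apply, Matrix.one_apply, e0_castSucc, eL_castSucc, eL_last,
        (Fin.castSucc_lt_last _).ne, (Fin.castSucc_lt_last _).ne', e0_last]
  have hr : stab n ≤ f.range := by
    intro x hx
    have hrow : ∀ y ∈ stab n, ∀ j, (y : Matrix (Fin (n + 2)) (Fin (n + 2)) (ZMod 2)) (Fin.last (n + 1)) j =
        (eL : Fin (n + 2) → ZMod 2) j := fun y hy j => by
      rw [← Fin.succ_last]; exact (stab_entries hy).2 j
    let blk : GL (Fin (n + 2)) (ZMod 2) → Matrix (Fin (n + 1)) (Fin (n + 1)) (ZMod 2) := fun y i j =>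
      (y : Matrix (Fin (n + 2)) (Fin (n + 2)) (ZMod 2)) i.castSucc j.castSucc
    have hblk : ∀ y ∈ stab n, ∀ w ∈ stab n, blk (y * w) = blk y * blk w := fun y hy w hw => by
      ext i j
      show ((y * w : GL (Fin (n + 2)) (ZMod 2)) : Matrix (Fin (n + 2)) (Fin (n + 2)) (ZMod 2)) _ _ = _
      have hl : (eL : Fin (n + 2) → ZMod 2) j.castSucc = 0 := by
        refine Fin.cases ?_ (fun a => ?_) j
        · simp [eL]
        · rw [Fin.castSucc_succ]; simp [eL]
      rw [Units.val_mul, Matrix.mul_apply, Fin.sum_univ_castSucc, hrow w hw, hl, mul_zero, add_zero, Matrix.mul_apply]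
    have hblk1 : blk 1 = 1 := by ext i j; simp [blk, Matrix.one_apply]
    have hB1 : blk x * blk x⁻¹ = 1 := by rw [← hblk x hx _ (inv_mem hx), mul_inv_cancel, hblk1]
    have hB2 : blk x⁻¹ * blk x = 1 := by rw [← hblk _ (inv_mem hx) x hx, inv_mul_cancel, hblk1]
    let ψ : ↥U ≃* ↥U :=
      { toFun := fun u => Φ.symm (blk x *ᵥ φ u)
        invFun := fun u => Φ.symm (blk x⁻¹ *ᵥ φ u)
        left_inv := fun u => by
          show Φ.symm (blk x⁻¹ *ᵥ Φ (Φ.symm (blk x *ᵥ φ u))) = u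
          rw [Equiv.apply_symm_apply, mulVec_mulVec, hB2, one_mulVec]
          exact Φ.symm_apply_apply u
        right_inv := fun u => by
          show Φ.symm (blk x *ᵥ Φ (Φ.symm (blk x⁻¹ *ᵥ φ u))) = u
          rw [Equiv.apply_symm_apply, mulVec_mulVec, hB1, one_mulVec]
          exact Φ.symm_apply_apply u
        map_mul' := fun a b => by rw [hφ, mulVec_add, hΦ] }
    obtain ⟨m, hm, hψ⟩ := hfull ψ
    let v : Fin (n + 1) → ZMod 2 := fun i =>
      (x : Matrix (Fin (n + 2)) (Fin (n + 2)) (ZMod 2)) i.castSucc (Fin.last (n + 1))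
    refine ⟨(Φ.symm v : G) * m, Units.ext ?_⟩
    rw [hfval, huniq' _ (Φ.symm v) (by simpa using hm), hAmul, hA1 (Φ.symm v : G)
      (fun u => by rw [hUc, mul_inv_cancel_right]), one_mul]
    have hAm : A m = blk x := hext _ _ fun u => by
      rw [hA, show cj m u = ψ u from Subtype.ext (hψ u).symm]
      exact Φ.apply_symm_apply _
    rw [hAm, show φ (Φ.symm v) = v from Φ.apply_symm_apply v]
    ext r c
    revert r
    refine Fin.lastCases ?_ fun i => ?_
    · rw [hrow x hx]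
      revert c
      refine Fin.lastCases ?_ fun j => ?_
      · simp [affMat, eL]
      · simp [affMat, eL_castSucc]
    · revert c
      refine Fin.lastCases ?_ fun j => ?_ <;> simp [affMat, blk, v]
  exact ⟨f, hf, hr, hfz⟩

end CfsgLib.Heisenberg.Affine
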